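import Groth.Prelude.Def_KRR
import Groth.Agent.CurveDeg.Twist
import Groth.Agent.RDerLES.LES
import Groth.Agent.QCohBase.Exact
import Groth.Agent.TensorMod.Invertible
import Groth.Agent.ProjUPLib.OfVeryAmple
import Groth.Agent.InvMod.Basic

/-!
# Regular sheaves on projective space in short exact sequences
-/

noncomputable section

universe u

open CategoryTheory Limits AlgebraicGeometry TopologicalSpace
open Groth.Agent.QCohBase

namespace Groth.Agent.RegSheafLib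

variable (n : ℕ) (T : Scheme.{u})

theorem iSup_basicOpen_eq_top : (⨆ f : (CohB1.polyGrading n (ULift.{u} ℤ)) 1,
    Proj.basicOpen (CohB1.polyGrading n (ULift.{u} ℤ)) (f : MvPolynomial (Fin (n + 1)) (ULift.{u} ℤ))) = ⊤ := by
  let 𝒜 := CohB1.polyGrading n (ULift.{u} ℤ)
  let e : ULift.{u} (Fin (n + 1)) → MvPolynomial (Fin (n + 1)) (ULift.{u} ℤ) := fun i ↦ MvPolynomial.X i.down
  have he : ∀ i, e i ∈ 𝒜 1 := fun i ↦ ProjCoord.X_mem i.down
  exact eq_top_iff.2 ((ProjUPLib.le_iSup_basicOpen 𝒜 e he (ProjUPLib.adjoin_range_X n _)).trans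
    (iSup_le fun k => le_iSup (fun f : 𝒜 1 => Proj.basicOpen 𝒜 (f : MvPolynomial (Fin (n + 1)) (ULift.{u} ℤ))) ⟨e k, he k⟩))

theorem isInvertible_twistOver (d : ℤ) : PicF.IsInvertible (Twist.twistOver n T d) :=
  GenLocus.isInvertible_pullback _ (ProjUPLib.isInvertible_twist _ d (iSup_basicOpen_eq_top n))

/-- `O(a) ⊗ O(b) ≅ O(a + b)`. -/
def twistAddIso (a b : ℤ) :
    CohB1.tensorMod (Twist.twistOver n T a) (Twist.twistOver n T b) ≅ Twist.twistOver n T (a + b) :=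
  (GenLocus.pullTensorIso _ (ProjUPLib.isInvertible_twist _ a (iSup_basicOpen_eq_top n))
    (ProjUPLib.isInvertible_twist _ b (iSup_basicOpen_eq_top n))).symm ≪≫
  (Scheme.Modules.pullback _).mapIso
    (@asIso _ _ _ _ _ (ProjUPLib.isIso_mulMap (CohB1.polyGrading n (ULift.{u} ℤ)) a b (iSup_basicOpen_eq_top n)))

/-- `F(b)(a) ≅ F(a + b)`. -/
def twFTwF (a b : ℤ) (F : (KRR.PY n T).Modules) :
    KRR.twF n T a (KRR.twF n T b F) ≅ KRR.twF n T (a + b) F :=
  (TensorMod.assocIso _ _ _).symm ≪≫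
    (((DCoh.tensorBi (X := KRR.PY n T)).mapIso (twistAddIso n T a b)).app F)

theorem twFSeq_shortExact (d : ℤ) {S : ShortComplex (KRR.PY n T).Modules} (hS : S.ShortExact) :
    ((CurveDeg.tensorSeq (Twist.twistOver n T d) S).map (modAb (KRR.PY n T))).ShortExact :=
  toAb_shortExact (CurveDeg.shortExact_tensorLeft
    (TensorMod.isFinLocFree_of_rank (TensorMod.isFinLocFreeOfRank_one (isInvertible_twistOver n T d))) hS)

/-- `O(0) ≅ O`. -/
def twistZeroIso : Twist.twistOver n T 0 ≅ Coh.structureModule (KRR.PY n T) :=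
  (Scheme.Modules.pullback _).mapIso (ProjUPLib.unitIso (CohB1.polyGrading n (ULift.{u} ℤ))).symm ≪≫
    GenLocus.pullUnitIso _

/-- `F(0) ≅ F`, naturally. -/
def twFZeroIso : (DCoh.tensorBi (X := KRR.PY n T)).obj (Twist.twistOver n T 0) ≅ 𝟭 _ :=
  (DCoh.tensorBi (X := KRR.PY n T)).mapIso (twistZeroIso n T) ≪≫
    (InvMod.tensorBiUnitIso (O := (KRR.PY n T).sheaf))

variable {n T}

theorem isRegSheaf_X₂ {S : ShortComplex (KRR.PY n T).Modules} (hS : S.ShortExact)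
    (h₁ : KRR.IsRegSheaf n T S.X₁) (h₃ : KRR.IsRegSheaf n T S.X₃) : KRR.IsRegSheaf n T S.X₂ :=
  fun i hi => ((RDerLES.derivedLES (Coh.pushAb (KRR.pr n T))).exact₂ _
    (twFSeq_shortExact n T (-(i : ℤ)) hS) i).isZero_of_both_zeros
      ((h₁ i hi).eq_of_src _ _) ((h₃ i hi).eq_of_tgt _ _)

theorem isRegSheaf_X₃ {S : ShortComplex (KRR.PY n T).Modules} (hS : S.ShortExact)
    (h₂ : KRR.IsRegSheaf n T S.X₂) (h₁ : KRR.IsRegSheaf n T (KRR.twF n T 1 S.X₁)) :
    KRR.IsRegSheaf n T S.X₃ := fun i hi => by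
  have e : KRR.twF n T (-((i + 1 : ℕ) : ℤ)) (KRR.twF n T 1 S.X₁) ≅ KRR.twF n T (-(i : ℤ)) S.X₁ :=
    twFTwF n T _ _ _ ≪≫ eqToIso (congrArg (fun d => KRR.twF n T d S.X₁) (by push_cast; ring))
  have hz : IsZero ((Coh.RpushAb (KRR.pr n T) (i + 1)).obj (Coh.toAb (KRR.twF n T (-(i : ℤ)) S.X₁))) :=
    (h₁ (i + 1) (by omega)).of_iso ((Coh.RpushAb (KRR.pr n T) (i + 1)).mapIso ((modAb _).mapIso e.symm))
  exact ((RDerLES.derivedLES (Coh.pushAb (KRR.pr n T))).exact₃ _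
    (twFSeq_shortExact n T (-(i : ℤ)) hS) i (i + 1) rfl).isZero_of_both_zeros
      ((h₂ i hi).eq_of_src _ _) (hz.eq_of_tgt _ _)

theorem isRegSheaf_twF_one_X₁ {S : ShortComplex (KRR.PY n T).Modules} (hS : S.ShortExact)
    (h₂ : KRR.IsRegSheaf n T (KRR.twF n T 1 S.X₂)) (h₃ : KRR.IsRegSheaf n T S.X₃)
    (hepi : Epi ((Scheme.Modules.pushforward (KRR.pr n T)).map S.g)) :
    KRR.IsRegSheaf n T (KRR.twF n T 1 S.X₁) := fun i hi => by
  obtain ⟨m, rfl⟩ : ∃ m, i = m + 1 := ⟨i - 1, by omega⟩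
  let p := Coh.pushAb (KRR.pr n T)
  have Δ := RDerLES.derivedLES p
  let d : ℤ := -(m : ℤ)
  have hd : -((m + 1 : ℕ) : ℤ) + 1 = d := by simp [d]
  let e : ∀ F : (KRR.PY n T).Modules, KRR.twF n T (-((m + 1 : ℕ) : ℤ)) (KRR.twF n T 1 F) ≅ KRR.twF n T d F :=
    fun F => twFTwF n T _ _ _ ≪≫ eqToIso (congrArg (fun c => KRR.twF n T c F) hd)
  let Sd := (CurveDeg.tensorSeq (Twist.twistOver n T d) S).map (modAb (KRR.PY n T))
  have hSd : Sd.ShortExact := twFSeq_shortExact n T d hS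
  have z₂ : IsZero ((p.rightDerived (m + 1)).obj Sd.X₂) :=
    (h₂ (m + 1) hi).of_iso ((p.rightDerived (m + 1)).mapIso ((modAb _).mapIso (e S.X₂).symm))
  have hδ : Δ.δ Sd hSd m (m + 1) rfl = 0 := by
    rcases m with _ | m'
    · haveI : Epi (p.map Sd.g) := by
        haveI : Epi ((modAb T).map ((Scheme.Modules.pushforward (KRR.pr n T)).map S.g)) := inferInstance
        haveI : Epi (p.map ((modAb (KRR.PY n T)).map S.g)) := this
        have hn := (twFZeroIso n T).hom.naturality S.g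
        have : Sd.g = (modAb (KRR.PY n T)).map ((twFZeroIso n T).hom.app S.X₂) ≫
            (modAb (KRR.PY n T)).map S.g ≫ (modAb (KRR.PY n T)).map ((twFZeroIso n T).inv.app S.X₃) := by
          rw [← Functor.map_comp, ← Functor.map_comp]
          refine congrArg (modAb (KRR.PY n T)).map ?_
          rw [← reassoc_of% hn]
          simp
          rfl
        rw [this]; erw [p.map_comp, p.map_comp]
        exact epi_comp' (@IsIso.epi_of_iso _ _ _ _ _ ((p.mapIso ((modAb (KRR.PY n T)).mapIso ((twFZeroIso n T).app S.X₂))).isIso_hom))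
          (epi_comp' ‹_› (@IsIso.epi_of_iso _ _ _ _ _ ((p.mapIso ((modAb (KRR.PY n T)).mapIso ((twFZeroIso n T).app S.X₃))).isIso_inv)))
      haveI : Epi ((p.rightDerived 0).map Sd.g) := by
        have : (p.rightDerived 0).map Sd.g = p.rightDerivedZeroIsoSelf.hom.app Sd.X₂ ≫ p.map Sd.g ≫
            p.rightDerivedZeroIsoSelf.inv.app Sd.X₃ := by
          rw [← NatTrans.naturality_assoc, Iso.hom_inv_id_app, Category.comp_id]
        rw [this]
        exact epi_comp' (IsIso.epi_of_iso _) (epi_comp' ‹_› (IsIso.epi_of_iso _))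
      rw [← cancel_epi ((p.rightDerived 0).map Sd.g), comp_zero]
      exact Δ.comp_δ Sd hSd 0 1 rfl
    · exact (h₃ (m' + 1) (by omega)).eq_of_src _ _
  exact ((Δ.exact₁ Sd hSd m (m + 1) rfl).isZero_of_both_zeros hδ (z₂.eq_of_tgt _ _)).of_iso
    ((p.rightDerived (m + 1)).mapIso ((modAb _).mapIso (e S.X₁)))

end Groth.Agent.RegSheafLib
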